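import Groth.Agent.TorusAbTrivLib.Basic
import Groth.Agent.MultKer.Main
import Groth.Agent.MaxTorus.Greatest
import Groth.Agent.DSMapLib.Exact
import Groth.Prelude.Def_WeilRes

/-!
# Homomorphisms from the multiplicative group to a Weil restriction of an abelian scheme
-/

set_option autoImplicit false
set_option backward.isDefEq.respectTransparency false
set_option backward.isDefEq.respectTransparency.types false
set_option linter.style.haveILetI false
set_option synthInstance.maxHeartbeats 400000
set_option maxHeartbeats 1000000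
universe u

open CategoryTheory CategoryTheory.Limits MonoidalCategory CartesianMonoidalCategory MonObj AlgebraicGeometry

noncomputable section

namespace Groth.Agent.WeilTorusLib

/-- The base change of the multiplicative group is a torus. -/
theorem isTorus_bc_Gm {U V : Scheme.{u}} (h : V ⟶ U) : Red.IsTorus (Red.bc h (Red.Gm U)) := by
  let ψ : ℤ ≃+ (Fin 1 → ℤ) := (LinearEquiv.funUnique (Fin 1) ℤ ℤ).symm.toAddEquiv
  let e : Red.DS V ℤ ≅ Red.DS V (Fin 1 → ℤ) :=
    ⟨Red.DSmap V ψ.symm.toAddMonoidHom, Red.DSmap V ψ.toAddMonoidHom,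
      by rw [MaxTorus.DSmap_comp, ← MaxTorus.DSmap_id]; congr 1,
      by rw [MaxTorus.DSmap_comp, ← MaxTorus.DSmap_id]; congr 1; ext; simp⟩
  haveI : IsMonHom e.hom := DSMapLib.isMonHom_DSmap V _
  have e₁ : Grp.mk (Red.bc h (Red.Gm U)) ≅ Grp.mk (Red.Gm V) :=
    HomDesc.bcGrpIso h _ (specULiftZIsTerminal.hom_ext _ _) (Red.diag (ULift.{u} ℤ) ℤ)
  refine ⟨V, 𝟙 V, inferInstance, inferInstance, fun W hW => ⟨W, hW.isCompact, by simp⟩, fun s => ?_⟩
  refine ⟨⊤, trivial, 1, ?_⟩
  refine QuotTorus.isSplit_of_comp (⊤ : V.Opens).ι (𝟙 V) (by simp) ?_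
  exact ⟨HomDesc.bcGrpIso (𝟙 V) h rfl (Red.Gm U) ≪≫
    (HomDesc.bcGrpIso (𝟙 V ≫ h) _ (specULiftZIsTerminal.hom_ext _ _) (Red.diag (ULift.{u} ℤ) ℤ) :
      Grp.mk (Red.bc (𝟙 V ≫ h) (Red.Gm U)) ≅ Grp.mk (Red.Gm V)) ≪≫ Grp.mkIso' e⟩

variable {S S' U : Scheme.{u}} (f : S' ⟶ S) (g : U ⟶ S)

theorem hom_Gm_eq_one {E : Over S'} [GrpObj E] [Smooth E.hom] [IsProper E.hom] [GeometricallyConnected E.hom]
    {R : Over S} [GrpObj R] (q : Red.bc f R ⟶ E) [IsMonHom q] (hR : WeilRes.IsWeilRes f E R q)
    (φ : Red.Gm U ⟶ Red.bc g R) [IsMonHom φ] : φ = 1 := by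
  let g' : pullback g f ⟶ S' := pullback.snd g f
  let f' : pullback g f ⟶ U := pullback.fst g f
  have hsq : f' ≫ g = g' ≫ f := pullback.condition
  let a : (Over.map g).obj (Red.Gm U) ⟶ R := (FixedSmooth.adjEquiv g R (Red.Gm U)).symm φ
  -- the comparison of base changes
  let k : ∀ V : Over (pullback g f), (Over.map g').obj V ⟶ Red.bc f ((Over.map g).obj ((Over.map f').obj V)) :=
    fun V => Over.homMk (pullback.lift (𝟙 V.left) (V.hom ≫ g') (by
      show 𝟙 V.left ≫ (V.hom ≫ f') ≫ g = _
      rw [Category.id_comp, Category.assoc, Category.assoc, hsq])) (pullback.lift_snd _ _ _)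
  have hk : ∀ {V V' : Over (pullback g f)} (t : V' ⟶ V),
      (Over.map g').map t ≫ k V = k V' ≫ (Over.pullback f).map ((Over.map g).map ((Over.map f').map t)) := by
    intro V V' t
    ext
    apply pullback.hom_ext
    · simp [k]
      erw [Category.id_comp]
    · simp [k, reassoc_of% (Over.w t)]
  let Φ : ∀ V : Over (pullback g f), (V ⟶ Red.bc f' (Red.Gm U)) → (V ⟶ Red.bc g' E) := fun V b =>
    FixedSmooth.adjEquiv g' E V (k V ≫ WeilRes.restr f q _
      ((FixedSmooth.adjEquiv g R _).symm ((FixedSmooth.adjEquiv f' (Red.Gm U) V).symm b ≫ φ)))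
  have hmul : ∀ V b c, Φ V (b * c) = Φ V b * Φ V c := by
    intro V b c
    simp only [Φ, map_mul, MonObj.mul_comp, WeilRes.restr_mul, MonObj.comp_mul]
  have hnat : ∀ (V V' : Over (pullback g f)) (t : V' ⟶ V) b, Φ V' (t ≫ b) = t ≫ Φ V b := by
    intro V V' t b
    have h1 : (FixedSmooth.adjEquiv f' (Red.Gm U) V').symm (t ≫ b) =
        (Over.map f').map t ≫ (FixedSmooth.adjEquiv f' (Red.Gm U) V).symm b :=
      (Over.mapPullbackAdj f').homEquiv_naturality_left_symm t b
    have h2 : ∀ c : (Over.map f').obj V ⟶ Red.bc g R,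
        (FixedSmooth.adjEquiv g R _).symm ((Over.map f').map t ≫ c) =
          (Over.map g).map ((Over.map f').map t) ≫ (FixedSmooth.adjEquiv g R _).symm c := fun c =>
      (Over.mapPullbackAdj g).homEquiv_naturality_left_symm ((Over.map f').map t) c
    show FixedSmooth.adjEquiv g' E V' _ = _
    rw [h1, Category.assoc, h2, WeilRes.restr_comp, ← Category.assoc, ← hk, Category.assoc]
    exact (Over.mapPullbackAdj g').homEquiv_naturality_left t _
  let u := Φ (Red.bc f' (Red.Gm U)) (𝟙 _)
  have hu : ∀ V (b : V ⟶ Red.bc f' (Red.Gm U)), Φ V b = b ≫ u := fun V b => by rw [← hnat, Category.comp_id]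
  haveI : IsMonHom u := WittHomLib.isMonHom_of_mul u fun V b c => by rw [← hu, ← hu, ← hu, hmul]
  haveI : Smooth (Red.bc g' E).hom := inferInstanceAs (Smooth (pullback.snd _ _))
  haveI : IsProper (Red.bc g' E).hom := inferInstanceAs (IsProper (pullback.snd _ _))
  haveI : GeometricallyConnected (Red.bc g' E).hom := inferInstanceAs (GeometricallyConnected (pullback.snd _ _))
  have hT : Red.IsTorus (Red.bc f' (Red.Gm U)) := isTorus_bc_Gm f'
  have h0 : u = 1 := TorusAbTrivLib.hom_eq_one' (SplitHom.isMultTypeFT_of_isTorus hT)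
    (TorusAbTrivLib.isTorus_fibre hT) u
  -- evaluate at the tautological point
  let T : Over U := Red.Gm U
  let V : Over (pullback g f) := Red.bc f' T
  let p : (Over.map f').obj V ⟶ T := (FixedSmooth.adjEquiv f' T V).symm (𝟙 _)
  have hV : k V ≫ (Over.pullback f).map ((Over.map g).map p) ≫ WeilRes.restr f q _ a = 1 := by
    have h := hu V (𝟙 _)
    rw [h0, MonObj.comp_one] at h
    simp only [Φ] at h
    rw [map_eq_one_iff _ (FixedSmooth.adjEquiv g' E V).injective] at h
    have h2 : (FixedSmooth.adjEquiv g R _).symm (p ≫ φ) = (Over.map g).map p ≫ a :=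
      (Over.mapPullbackAdj g).homEquiv_naturality_left_symm p φ
    rw [show (FixedSmooth.adjEquiv f' (Red.Gm U) V).symm (𝟙 _) = p from rfl, h2, WeilRes.restr_comp] at h
    exact h
  let m := k V ≫ (Over.pullback f).map ((Over.map g).map p)
  have hm : IsIso m := by
    let j : Red.bc f ((Over.map g).obj T) ⟶ (Over.map g').obj V :=
      Over.homMk (pullback.lift (pullback.fst _ _)
        (pullback.lift (pullback.fst _ _ ≫ T.hom) (pullback.snd _ _) (by
          rw [Category.assoc]; exact pullback.condition))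
        (pullback.lift_fst _ _ _).symm) (by
          show pullback.lift (pullback.fst _ _) _ _ ≫ pullback.snd _ _ ≫ pullback.snd g f = _
          rw [← Category.assoc, pullback.lift_snd, pullback.lift_snd]
          rfl)
    have hp : p.left = pullback.fst T.hom f' := by
      simp [p, FixedSmooth.adjEquiv, Over.mapPullbackAdj, V]
    refine ⟨j, ?_, ?_⟩
    · ext
      apply pullback.hom_ext
      · simp [m, k, j, hp, V]
        erw [Category.id_comp]
      · apply pullback.hom_ext
        · simp [m, k, j, hp, V]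
          erw [Category.id_comp]
          exact pullback.condition
        · simp [m, k, j, hp, V, g']
    · ext
      apply pullback.hom_ext
      · simp [m, k, j, hp, V]
        erw [Category.id_comp, pullback.lift_fst]
      · simp [m, k, j, hp, V, g']
  have ha : a = 1 := (hR _).1 (by
    rw [WeilRes.restr_one, ← cancel_epi m, MonObj.comp_one]
    exact (Category.assoc _ _ _).trans hV)
  have := congrArg (FixedSmooth.adjEquiv g R (Red.Gm U)) ha
  simpa [a] using this

end Groth.Agent.WeilTorusLib
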